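import Mathlib
import Cfsg.Agent.Lib.Forms.Max.LinearMono

/-!
# Pseudo-homologies in a group above the monomial group of degree four

`Hy` is a scalar times a homology with factor `μ`, `Rt` a transvection.  Conjugating one by the other gives root
elements; a single root generates the special linear group with the monomial group.
-/

set_option autoImplicit false
set_option linter.unusedSectionVars false

namespace Cfsg.Agent.Forms.Max.SL4.Lines

open Matrix Cfsg.Agent.Forms.Max Cfsg.Agent.Forms.Max.LinearMono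

variable {F : Type*} [Field F]

local notation "Vec" => (Fin 4 → F)
local notation "G4" => GL (Fin 4) F

/-- scalar times homology -/
def Hy (M : Subgroup G4) (a μ : F) (u φ : Vec) : Prop :=
  φ ⬝ᵥ u = 1 ∧ ∃ g ∈ M, ∀ x : Vec, (g : Matrix (Fin 4) (Fin 4) F) *ᵥ x = a • (x + ((μ - 1) * (φ ⬝ᵥ x)) • u)

/-- transvection -/
def Rt (M : Subgroup G4) (u φ : Vec) : Prop :=
  φ ⬝ᵥ u = 0 ∧ ∃ g ∈ M, ∀ x : Vec, (g : Matrix (Fin 4) (Fin 4) F) *ᵥ x = x + (φ ⬝ᵥ x) • u

/-- the standing hypotheses -/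
structure Std (M : Subgroup G4) (a μ : F) : Prop where
  above : AboveMono M
  pow : a ^ 4 * μ = 1
  ne_one : μ ≠ 1
  notSL : ¬ Cfsg.Geo.specialLinear (Fin 4) F ≤ M

variable {M : Subgroup (GL (Fin 4) F)} {a μ : F}

theorem inv_act {g : G4} {u φ : Vec} (hd : φ ⬝ᵥ u = 1) (ha : a ≠ 0) (hμ : μ ≠ 0)
    (hg : ∀ x : Vec, (g : Matrix (Fin 4) (Fin 4) F) *ᵥ x = a • (x + ((μ - 1) * (φ ⬝ᵥ x)) • u)) (x : Vec) :
    ((g⁻¹ : G4) : Matrix (Fin 4) (Fin 4) F) *ᵥ x = a⁻¹ • (x + ((μ⁻¹ - 1) * (φ ⬝ᵥ x)) • u) := by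
  refine mulVec_inj g ?_
  rw [mulVec_inv_cancel, mulVec_smul, hg, smul_smul, inv_mul_cancel₀ ha, one_smul, dotProduct_add,
    dotProduct_smul, hd, smul_eq_mul, mul_one, add_assoc, ← add_smul,
    show (μ⁻¹ - 1) * (φ ⬝ᵥ x) + (μ - 1) * (φ ⬝ᵥ x + (μ⁻¹ - 1) * (φ ⬝ᵥ x)) = 0 by field_simp; ring,
    zero_smul, add_zero]

theorem dot_conj (g : G4) (φ x : Vec) :
    (φ ᵥ* ((g⁻¹ : G4) : Matrix (Fin 4) (Fin 4) F)) ⬝ᵥ x = φ ⬝ᵥ (((g⁻¹ : G4) : Matrix (Fin 4) (Fin 4) F) *ᵥ x) :=
  (dotProduct_mulVec _ _ _).symm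

theorem hy_conj {u φ : Vec} (h : Hy M a μ u φ) {k : G4} (hk : k ∈ M) :
    Hy M a μ ((k : Matrix (Fin 4) (Fin 4) F) *ᵥ u) (φ ᵥ* ((k⁻¹ : G4) : Matrix (Fin 4) (Fin 4) F)) := by
  obtain ⟨hd, g, hg, e⟩ := h
  refine ⟨by rw [dot_conj, inv_mulVec_cancel, hd], k * g * k⁻¹, mul_mem (mul_mem hk hg) (inv_mem hk), fun x => ?_⟩
  rw [mulVec_mul_GL, mulVec_mul_GL, e, dot_conj, mulVec_smul, mulVec_add, mulVec_smul, mulVec_inv_cancel]

theorem hy_scale {u φ : Vec} (h : Hy M a μ u φ) {l : F} (hl : l ≠ 0) : Hy M a μ (l • u) (l⁻¹ • φ) := by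
  obtain ⟨hd, g, hg, e⟩ := h
  refine ⟨by rw [smul_dotProduct, dotProduct_smul, hd, smul_eq_mul, smul_eq_mul, mul_one, inv_mul_cancel₀ hl],
    g, hg, fun x => ?_⟩
  rw [e, smul_dotProduct, smul_eq_mul, smul_smul,
    show (μ - 1) * (l⁻¹ * (φ ⬝ᵥ x)) * l = (μ - 1) * (φ ⬝ᵥ x) by field_simp]

/-- a single root -/
theorem sl_of_single (hN : AboveMono M) (htrv : HasTrv M) : Cfsg.Geo.specialLinear (Fin 4) F ≤ M := by
  classical
  obtain ⟨i, j, c, hij, hc, t, ht, htm⟩ := htrv
  intro x hx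
  let S : Subgroup (SpecialLinearGroup (Fin 4) F) := M.comap SpecialLinearGroup.toGL
  have hS : S = ⊤ := Classical.Linear.eq_top_of_transvection_mem S fun k l hkl d => by
    show SpecialLinearGroup.toGL (SpecialLinearGroup.transvection hkl d) ∈ M
    rcases eq_or_ne d 0 with rfl | hd
    · convert one_mem M using 1
      refine Units.ext ?_
      show (SpecialLinearGroup.transvection hkl (0 : F) : Matrix (Fin 4) (Fin 4) F) = _
      rw [SpecialLinearGroup.transvection_coe]
      simp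
    -- a permutation carrying the one position to the other
    obtain ⟨σ, hσi, hσj⟩ : ∃ σ : Equiv.Perm (Fin 4), σ i = k ∧ σ j = l := by
      refine ⟨Equiv.swap (Equiv.swap i k j) l * Equiv.swap i k, ?_, ?_⟩
      · rw [Equiv.Perm.mul_apply, Equiv.swap_apply_left]
        exact Equiv.swap_apply_of_ne_of_ne (fun e => hij ((Equiv.swap i k).injective (by rw [Equiv.swap_apply_left]; exact e))) hkl
      · rw [Equiv.Perm.mul_apply, Equiv.swap_apply_left]
    obtain ⟨z, hzi, hzj⟩ : ∃ z, z ≠ i ∧ z ≠ j := by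
      by_contra hc
      push Not at hc
      have h4 := Finset.card_le_card (show (Finset.univ : Finset (Fin 4)) ⊆ {i, j} from fun x _ => by
        by_cases hx : x = i
        · simp [hx]
        · simp [hc x hx])
      have h5 := h4.trans Finset.card_le_two
      rw [Finset.card_univ, Fintype.card_fin] at h5
      omega
    set r : Fˣ := Units.mk0 (d / c) (div_ne_zero hd hc)
    set e : Fˣ := Units.map (Int.castRingHom F) (Equiv.Perm.sign σ)
    have he : ((Equiv.Perm.sign σ : ℤˣ) : ℤ) * ((e : Fˣ) : F) = 1 := by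
      rcases Int.units_eq_one_or (Equiv.Perm.sign σ) with h | h <;> simp [e, h]
    set s : (Fin 4) → Fˣ := fun x => if x = i then r else if x = z then r⁻¹ * e else 1
    have hm : mon σ s ∈ M := mon_mem hN (by
      rw [prod_two hzi.symm, Units.val_mul, ← mul_assoc (r : F), Units.mul_inv, one_mul, he])
    convert mul_mem (mul_mem hm ht) (inv_mem hm) using 1
    rw [eq_mul_inv_iff_mul_eq]
    refine Units.ext ?_
    rw [Units.val_mul, Units.val_mul, htm]
    show (SpecialLinearGroup.transvection hkl d : Matrix (Fin 4) (Fin 4) F) * _ = _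
    rw [SpecialLinearGroup.transvection_coe, add_mul, one_mul, mul_add, mul_one]
    congr 1
    have hsi : (s i : F) = d / c := by simp [s, r]
    have hsj : (s j : F) = 1 := by simp [s, hij.symm, hzj.symm]
    ext p q
    rw [Matrix.mul_apply, Matrix.mul_apply, Finset.sum_eq_single l (fun y _ hy => by
        simp [Matrix.single_apply, Ne.symm hy]) (by simp), Finset.sum_eq_single i (fun y _ hy => by
        simp [Matrix.single_apply, Ne.symm hy]) (by simp)]
    simp only [Matrix.single_apply, mon_apply, hσi, true_and, and_true]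
    by_cases hp : p = k <;> by_cases hq' : q = j
    · subst hp hq'; simp [hσj, hsi, hsj]; field_simp
    · subst hp
      have : l ≠ σ q := fun e => hq' (σ.injective (hσj.trans e)).symm
      simp [this, Ne.symm hq']
    · simp [hp, Ne.symm hp]
    · simp [hp, Ne.symm hp, Ne.symm hq']
  let x' : SpecialLinearGroup (Fin 4) F := ⟨(x : Matrix (Fin 4) (Fin 4) F), Aschbacher.mem_specialLinear.1 hx⟩
  have hx' : x' ∈ S := hS ▸ Subgroup.mem_top _
  have : SpecialLinearGroup.toGL x' = x := Units.ext rfl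
  rw [← this]; exact hx'

variable (C : Std M a μ)

include C

theorem Std.a0 : a ≠ 0 := by
  rintro rfl; simpa using C.pow

theorem Std.μ0 : μ ≠ 0 := right_ne_zero_of_mul_eq_one C.pow

theorem Std.m0 : μ - 1 ≠ 0 := sub_ne_zero.2 C.ne_one

theorem Std.m0' : μ⁻¹ - 1 ≠ 0 := sub_ne_zero.2 fun e => C.ne_one (by simpa using e)

/-- conjugate a pseudo-homology by another -/
theorem hy_hy {u φ w ψ : Vec} (h : Hy M a μ u φ) (h' : Hy M a μ w ψ) :
    Hy M a μ (u + ((μ - 1) * (ψ ⬝ᵥ u)) • w) (φ + ((μ⁻¹ - 1) * (φ ⬝ᵥ w)) • ψ) := by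
  obtain ⟨hd', k, hk, e⟩ := h'
  have h2 := hy_scale (hy_conj h hk) (inv_ne_zero C.a0)
  rw [e, smul_smul, inv_mul_cancel₀ C.a0, one_smul, inv_inv] at h2
  refine (show _ = φ + ((μ⁻¹ - 1) * (φ ⬝ᵥ w)) • ψ from ?_) ▸ h2
  refine dotProduct_eq _ _ fun x => ?_
  rw [smul_dotProduct, dot_conj, inv_act hd' C.a0 C.μ0 e, dotProduct_smul, smul_smul, mul_inv_cancel₀ C.a0, one_smul,
    dotProduct_add, dotProduct_smul, add_dotProduct, smul_dotProduct, smul_eq_mul, smul_eq_mul]
  ring

/-- two with the same centre -/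
theorem row_diff {u φ φ' : Vec} (h : Hy M a μ u φ) (h' : Hy M a μ u φ') :
    Rt M u ((μ - 1) • (φ' - φ)) := by
  obtain ⟨hd, g, hg, e⟩ := h
  obtain ⟨hd', g', hg', e'⟩ := h'
  refine ⟨by rw [smul_dotProduct, sub_dotProduct, hd, hd', sub_self, smul_zero], g' * g⁻¹,
    mul_mem hg' (inv_mem hg), fun x => ?_⟩
  rw [mulVec_mul_GL, inv_act hd C.a0 C.μ0 e, mulVec_smul, e', smul_smul, inv_mul_cancel₀ C.a0, one_smul,
    dotProduct_add, dotProduct_smul, hd', smul_dotProduct, sub_dotProduct, smul_eq_mul, smul_eq_mul, mul_one,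
    add_assoc, ← add_smul]
  congr 2
  have := C.μ0
  field_simp
  ring

/-- two with the same row -/
theorem col_diff {u u' φ : Vec} (h : Hy M a μ u φ) (h' : Hy M a μ u' φ) :
    Rt M ((μ⁻¹ - 1) • (u - u')) φ := by
  obtain ⟨hd, g, hg, e⟩ := h
  obtain ⟨hd', g', hg', e'⟩ := h'
  refine ⟨by rw [dotProduct_smul, dotProduct_sub, hd, hd', sub_self, smul_zero], g' * g⁻¹,
    mul_mem hg' (inv_mem hg), fun x => ?_⟩
  rw [mulVec_mul_GL, inv_act hd C.a0 C.μ0 e, mulVec_smul, e', smul_smul, inv_mul_cancel₀ C.a0, one_smul,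
    dotProduct_add, dotProduct_smul, hd, smul_eq_mul, mul_one, smul_sub, smul_sub, add_assoc]
  have := C.μ0
  match_scalars <;> field_simp <;> ring

/-- commutator of a transvection and a pseudo-homology whose centre its row kills -/
theorem rt_step_col {u φ w ψ : Vec} (h : Rt M u φ) (h' : Hy M a μ w ψ) (hw : φ ⬝ᵥ w = 0) :
    Rt M (((μ - 1) * (ψ ⬝ᵥ u)) • w) φ := by
  obtain ⟨hd, g, hg, e⟩ := h
  obtain ⟨hd', k, hk, e'⟩ := h'
  refine ⟨by rw [dotProduct_smul, hw, smul_zero], g⁻¹ * (k * g * k⁻¹),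
    mul_mem (inv_mem hg) (mul_mem (mul_mem hk hg) (inv_mem hk)), fun x => ?_⟩
  refine mulVec_inj g ?_
  rw [mulVec_mul_GL, mulVec_inv_cancel, mulVec_mul_GL, mulVec_mul_GL, e]
  have h1 : φ ⬝ᵥ (((k⁻¹ : G4) : Matrix (Fin 4) (Fin 4) F) *ᵥ x) = a⁻¹ * (φ ⬝ᵥ x) := by
    rw [inv_act hd' C.a0 C.μ0 e', dotProduct_smul, dotProduct_add, dotProduct_smul, hw, smul_zero, add_zero,
      smul_eq_mul]
  rw [h1, mulVec_add, mulVec_inv_cancel, mulVec_smul, e', e, dotProduct_add, dotProduct_smul, dotProduct_smul, hw]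
  have := C.a0
  match_scalars <;> simp [C.a0] <;> field_simp

/-- dual -/
theorem rt_step_row {u φ w ψ : Vec} (h : Rt M u φ) (h' : Hy M a μ w ψ) (hu : ψ ⬝ᵥ u = 0) :
    Rt M u (((μ⁻¹ - 1) * (φ ⬝ᵥ w)) • ψ) := by
  obtain ⟨hd, g, hg, e⟩ := h
  obtain ⟨hd', k, hk, e'⟩ := h'
  refine ⟨by rw [smul_dotProduct, hu, smul_zero], g⁻¹ * (k * g * k⁻¹),
    mul_mem (inv_mem hg) (mul_mem (mul_mem hk hg) (inv_mem hk)), fun x => ?_⟩
  refine mulVec_inj g ?_
  rw [mulVec_mul_GL, mulVec_inv_cancel, mulVec_mul_GL, mulVec_mul_GL, e, mulVec_add, mulVec_inv_cancel,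
    mulVec_smul, e', hu, e, inv_act hd' C.a0 C.μ0 e', dotProduct_smul, dotProduct_add, dotProduct_smul,
    dotProduct_add, dotProduct_smul, hd, smul_dotProduct]
  have := C.a0
  match_scalars <;> simp [C.a0] <;> field_simp <;> ring

/-- the axis homologies -/
theorem hy_axis (k : Fin 4) : Hy M a μ (E F k) (E F k) := by
  refine ⟨by rw [single_dotProduct, one_mul, E_self],
    mon 1 (fun j => if j = k then Units.mk0 (a * μ) (mul_ne_zero C.a0 C.μ0) else Units.mk0 a C.a0),
    mon_mem C.above ?_, fun x => funext fun j => ?_⟩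
  · rw [← C.pow, ← Finset.mul_prod_erase Finset.univ _ (Finset.mem_univ k),
      Finset.prod_congr rfl (g := fun _ => a) fun j hj => by
        rw [if_neg (Finset.ne_of_mem_erase hj), Units.val_mk0],
      Finset.prod_const, Finset.card_erase_of_mem (Finset.mem_univ k), Finset.card_univ, Fintype.card_fin]
    simp
    ring
  · have := mon_mulVec 1 (fun j => if j = k then Units.mk0 (a * μ) (mul_ne_zero C.a0 C.μ0) else Units.mk0 a C.a0) x j
    rw [Equiv.Perm.one_apply] at this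
    rw [this, Pi.smul_apply, Pi.add_apply, Pi.smul_apply, single_dotProduct, smul_eq_mul, smul_eq_mul]
    by_cases hj : j = k
    · subst hj; simp; ring
    · simp [hj]

theorem no_single {i k : Fin 4} (hik : i ≠ k) {d : F} (hd : d ≠ 0) {u φ : Vec} (h : Rt M u φ)
    (he : ∀ x : Vec, (φ ⬝ᵥ x) • u = (d * x k) • E F i) : False := by
  obtain ⟨-, g, hg, e⟩ := h
  refine C.notSL (sl_of_single C.above ⟨i, k, d, hik, hd, g, hg, Matrix.ext fun r s => ?_⟩)
  rw [← LinearMono.col_apply, e, he, Matrix.add_apply, Pi.add_apply, Pi.smul_apply]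
  by_cases hs : s = k
  · subst hs
    simp [Pi.single_apply, Matrix.one_apply, Matrix.single_apply, eq_comm]
  · simp [Pi.single_apply, Matrix.one_apply, Matrix.single_apply, eq_comm, hs, Ne.symm hs]

/-- no transvection whose row is a coordinate -/
theorem no_col {u : Vec} {k : Fin 4} {d : F} (hd : d ≠ 0) (h : Rt M u (d • E F k)) : u = 0 := by
  have hk : u k = 0 := by
    have := h.1
    rw [smul_dotProduct, single_dotProduct, one_mul, smul_eq_mul] at this
    exact (mul_eq_zero.1 this).resolve_left hd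
  by_contra hu
  obtain ⟨i, hi⟩ := Function.ne_iff.1 hu
  rw [Pi.zero_apply] at hi
  have hik : i ≠ k := fun e => hi (e ▸ hk)
  have h2 := rt_step_col C h (hy_axis C i) (by
    rw [smul_dotProduct, single_dotProduct, one_mul, E_ne hik.symm, smul_zero])
  refine no_single C hik (mul_ne_zero hd (mul_ne_zero C.m0 hi)) h2 fun x => ?_
  rw [smul_dotProduct, single_dotProduct, single_dotProduct, one_mul, one_mul, smul_eq_mul, smul_smul]
  congr 1
  ring

/-- no transvection whose centre is a coordinate -/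
theorem no_row {φ : Vec} {k : Fin 4} {d : F} (hd : d ≠ 0) (h : Rt M (d • E F k) φ) : φ = 0 := by
  have hk : φ k = 0 := by
    have := h.1
    rw [dotProduct_smul, dotProduct_single, mul_one, smul_eq_mul] at this
    exact (mul_eq_zero.1 this).resolve_left hd
  by_contra hφ
  obtain ⟨i, hi⟩ := Function.ne_iff.1 hφ
  rw [Pi.zero_apply] at hi
  have hik : i ≠ k := fun e => hi (e ▸ hk)
  have h2 := rt_step_row C h (hy_axis C i) (by
    rw [dotProduct_smul, single_dotProduct, one_mul, E_ne hik, smul_zero])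
  refine no_single C hik.symm (mul_ne_zero hd (mul_ne_zero C.m0' hi)) h2 fun x => ?_
  rw [smul_dotProduct, single_dotProduct, dotProduct_single, mul_one, one_mul, smul_eq_mul, smul_smul]
  congr 1
  ring

/-- centre and row have the same support -/
theorem bal {u φ : Vec} (h : Hy M a μ u φ) (k : Fin 4) : u k = 0 ↔ φ k = 0 := by
  have h2 := hy_hy C h (hy_axis C k)
  rw [single_dotProduct, one_mul, dotProduct_single, mul_one] at h2
  constructor
  · intro hu
    rw [hu, mul_zero, zero_smul, add_zero] at h2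
    by_contra hφ
    have h3 := row_diff C h h2
    rw [add_sub_cancel_left, smul_smul] at h3
    have := no_col C (mul_ne_zero C.m0 (mul_ne_zero C.m0' hφ)) h3
    have h1 := h.1
    rw [this, dotProduct_zero] at h1
    exact zero_ne_one h1
  · intro hφ
    rw [hφ, mul_zero, zero_smul, add_zero] at h2
    by_contra hu
    have h3 := col_diff C h h2
    rw [sub_add_cancel_left, smul_neg, ← neg_smul, smul_smul] at h3
    have := no_row C ?_ h3
    · have h1 := h.1
      rw [this, zero_dotProduct] at h1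
      exact zero_ne_one h1
    · exact mul_ne_zero (neg_ne_zero.2 C.m0') (mul_ne_zero C.m0 hu)

end Cfsg.Agent.Forms.Max.SL4.Lines
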