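import Mathlib
import Cfsg.Agent.Lib.Forms.Max.SL4.Lines.Basic

/-!
# The torus move on pseudo-homologies
-/

set_option autoImplicit false
set_option linter.unusedSectionVars false

namespace Cfsg.Agent.Forms.Max.SL4.Lines

open Matrix Cfsg.Agent.Forms.Max Cfsg.Agent.Forms.Max.LinearMono

variable {F : Type*} [Field F]

/-- four distinct coordinates -/
abbrev Dist (i j k l : Fin 4) : Prop := i ≠ j ∧ i ≠ k ∧ i ≠ l ∧ j ≠ k ∧ j ≠ l ∧ k ≠ l

theorem univ_four {i j k l : Fin 4} (h : Dist i j k l) : (Finset.univ : Finset (Fin 4)) = {i, j, k, l} := by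
  revert i j k l; decide

theorem sum_four {i j k l : Fin 4} (h : Dist i j k l) (f : Fin 4 → F) : ∑ x, f x = f i + f j + f k + f l := by
  obtain ⟨h1, h2, h3, h4, h5, h6⟩ := h
  rw [univ_four ⟨h1, h2, h3, h4, h5, h6⟩, Finset.sum_insert (by simp [h1, h2, h3]),
    Finset.sum_insert (by simp [h4, h5]), Finset.sum_insert (by simp [h6]), Finset.sum_singleton]
  ring

theorem prod_four {i j k l : Fin 4} (h : Dist i j k l) (f : Fin 4 → F) : ∏ x, f x = f i * f j * f k * f l := by
  obtain ⟨h1, h2, h3, h4, h5, h6⟩ := h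
  rw [univ_four ⟨h1, h2, h3, h4, h5, h6⟩, Finset.prod_insert (by simp [h1, h2, h3]),
    Finset.prod_insert (by simp [h4, h5]), Finset.prod_insert (by simp [h6]), Finset.prod_singleton]
  ring

theorem others_one (i : Fin 4) : ∃ j k l, Dist i j k l := by revert i; decide

theorem others_two {i j : Fin 4} (h : i ≠ j) : ∃ k l, Dist i j k l := by revert i j; decide

theorem others_three {i j k : Fin 4} (h₁ : i ≠ j) (h₂ : i ≠ k) (h₃ : j ≠ k) : ∃ l, Dist i j k l := by
  revert i j k; decide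

variable {M : Subgroup (GL (Fin 4) F)} {a μ : F}

theorem sum_one {u φ : Fin 4 → F} (h : Hy M a μ u φ) {i j k l : Fin 4} (hd : Dist i j k l) :
    u i * φ i + u j * φ j + u k * φ k + u l * φ l = 1 := by
  have h1 : ∑ x, u x * φ x = 1 := by
    rw [← h.1]; exact Finset.sum_congr rfl fun x _ => mul_comm _ _
  rwa [sum_four hd] at h1

variable (S : Std M a μ)

include S

/-- conjugate by the torus and apply -/
theorem move {u φ : Fin 4 → F} (h : Hy M a μ u φ) {i j k l : Fin 4} (hd : Dist i j k l) (hi : u i ≠ 0)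
    {A B D t : F} (hA : A ≠ 0) (hB : B ≠ 0) (hD : D ≠ 0) (ht : t ^ 4 = A * B * D)
    (he : (μ - 1) * (u i * φ i + u j * φ j * A + u k * φ k * B + u l * φ l * D) = -1) :
    (μ⁻¹ - 1) * (u i * φ i + u j * φ j / A + u k * φ k / B + u l * φ l / D) = -1 ∧
      ∃ u' φ' : Fin 4 → F, Hy M a μ u' φ' ∧ u' i = 0 ∧ u' j = u j * (1 - A⁻¹) ∧ u' k = u k * (1 - B⁻¹) ∧
        u' l = u l * (1 - D⁻¹) := by
  have hd' := hd
  obtain ⟨d1, d2, d3, d4, d5, d6⟩ := hd'
  set r : Fin 4 → F := fun x => if x = j then A else if x = k then B else if x = l then D else 1 with hr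
  have ri : r i = 1 := by simp [hr, d1, d2, d3]
  have rj : r j = A := by simp [hr]
  have rk : r k = B := by simp [hr, d4.symm]
  have rl : r l = D := by simp [hr, d5.symm, d6.symm]
  have hr0 : ∀ x, r x ≠ 0 := fun x => by
    simp only [hr]; split_ifs <;> first | assumption | exact one_ne_zero
  have ht0 : t ≠ 0 := by
    rintro rfl
    exact mul_ne_zero (mul_ne_zero hA hB) hD (by rw [← ht]; ring)
  set s : Fin 4 → Fˣ := fun x => Units.mk0 (t / r x) (div_ne_zero ht0 (hr0 x)) with hs
  have hm : mon 1 s ∈ M := mon_mem S.above (by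
    rw [prod_four hd]
    simp [hs, ri, rj, rk, rl]
    field_simp
    linear_combination ht)
  have h1 := hy_conj h hm
  have e1 : (mon 1 s : Matrix (Fin 4) (Fin 4) F) *ᵥ u = fun x => t / r x * u x := funext fun x => by
    have := mon_mulVec 1 s u x
    rwa [Equiv.Perm.one_apply, hs, Units.val_mk0] at this
  have e2 : φ ᵥ* (((mon 1 s)⁻¹ : GL (Fin 4) F) : Matrix (Fin 4) (Fin 4) F) = fun x => φ x * (r x / t) := by
    have : (fun x => φ x * (r x / t)) ᵥ* (mon 1 s : Matrix (Fin 4) (Fin 4) F) = φ := funext fun x => by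
      rw [mon_vecMul, Equiv.Perm.one_apply, hs, Units.val_mk0]
      have := hr0 x
      field_simp
    conv_lhs => rw [← this]
    rw [vecMul_vecMul, ← Units.val_mul, mul_inv_cancel, Units.val_one, vecMul_one]
  rw [e1, e2] at h1
  have h2 := hy_hy S h h1
  have hi1 : (fun x => φ x * (r x / t)) ⬝ᵥ u = (∑ x, u x * φ x * r x) / t := by
    rw [Finset.sum_div]; exact Finset.sum_congr rfl fun x _ => by ring
  have hi2 : φ ⬝ᵥ (fun x => t / r x * u x) = t * ∑ x, u x * φ x / r x := by
    rw [Finset.mul_sum]; exact Finset.sum_congr rfl fun x _ => by ring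
  rw [hi1, hi2, sum_four hd, sum_four hd, ri, rj, rk, rl, div_one, mul_one] at h2
  set u' := u + ((μ - 1) * ((u i * φ i + u j * φ j * A + u k * φ k * B + u l * φ l * D) / t)) •
    fun x => t / r x * u x with hu'
  have hx : ∀ x, u' x = u x * (1 - (r x)⁻¹) := fun x => by
    rw [hu', Pi.add_apply, Pi.smul_apply, smul_eq_mul, ← mul_div_assoc, he]
    field_simp
    ring
  have hzero : u' i = 0 := by rw [hx, ri]; simp
  refine ⟨?_, u', _, h2, hzero, by rw [hx, rj], by rw [hx, rk], by rw [hx, rl]⟩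
  have h3 := (bal S h2 i).1 hzero
  rw [Pi.add_apply, Pi.smul_apply, smul_eq_mul, ri] at h3
  have hφi : φ i ≠ 0 := fun e => hi ((bal S h i).2 e)
  have h4 : φ i * (1 + (μ⁻¹ - 1) * (u i * φ i + u j * φ j / A + u k * φ k / B + u l * φ l / D)) = 0 := by
    rw [← h3]; field_simp
  linear_combination (mul_eq_zero.1 h4).resolve_left hφi

/-- support two: the weight on one side is determined -/
theorem two_key {u φ : Fin 4 → F} (h : Hy M a μ u φ) {i j k l : Fin 4} (hd : Dist i j k l) (hi : u i ≠ 0)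
    (hj : u j ≠ 0) (hk : u k = 0) (hl : u l = 0) (hn : 1 + (μ - 1) * (u i * φ i) ≠ 0) :
    μ + (μ - 1) ^ 2 * (u j * φ j) = 0 := by
  have hv : u j * φ j ≠ 0 := mul_ne_zero hj fun e => hj ((bal S h j).2 e)
  have h1 := sum_one h hd
  rw [hk, hl, zero_mul, zero_mul, add_zero, add_zero] at h1
  set R := -(1 + (μ - 1) * (u i * φ i)) / ((μ - 1) * (u j * φ j)) with hR
  have hR0 : R ≠ 0 := div_ne_zero (neg_ne_zero.2 hn) (mul_ne_zero S.m0 hv)
  have hm0 := S.m0
  have hφj := right_ne_zero_of_mul hv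
  have hRe : R * ((μ - 1) * (u j * φ j)) = -(1 + (μ - 1) * (u i * φ i)) :=
    div_mul_cancel₀ _ (mul_ne_zero S.m0 hv)
  obtain ⟨h2, -⟩ := move S h hd hi hR0 (inv_ne_zero hR0) one_ne_zero (t := 1)
    (by rw [mul_inv_cancel₀ hR0]; ring) (by
      rw [hk, hl, hR]
      field_simp
      ring)
  rw [hk, hl] at h2
  simp only [zero_mul, zero_div, add_zero] at h2
  have := S.μ0
  clear_value R
  generalize u i * φ i = p at *
  generalize u j * φ j = q at *
  field_simp at h2
  obtain rfl : p = 1 - q := by linear_combination h1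
  linear_combination (-(μ - 1) * q) * h2 + (μ - (μ - 1) * (1 - q)) * hRe

/-- only one ratio differs from one -/
theorem one_key {u φ : Fin 4 → F} (h : Hy M a μ u φ) {i j k l : Fin 4} (hd : Dist i j k l) {R : F} (hR : R ≠ 0)
    (he : (μ - 1) * (u i * φ i + u j * φ j + u k * φ k + u l * φ l * R) = -1)
    (he' : (μ⁻¹ - 1) * (u i * φ i + u j * φ j + u k * φ k + u l * φ l / R) = -1) :
    μ + (μ - 1) ^ 2 * (u l * φ l) = 0 := by
  have h1 := sum_one h hd
  have := S.μ0
  have hs : u i * φ i + u j * φ j + u k * φ k = 1 - u l * φ l := by linear_combination h1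
  rw [hs] at he he'
  generalize u l * φ l = q at *
  field_simp at he'
  have hRμ : R = μ := by linear_combination he' - he
  rw [hRμ] at he
  linear_combination he

end Cfsg.Agent.Forms.Max.SL4.Lines
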