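import Mathlib
import Cfsg.Agent.Lib.Forms.Max.SL4.Lines.Moves

/-!
# Supports when the factor is minus one

Monomial reflections on two coordinates make all weights of a large support equal, which is impossible.
-/

set_option autoImplicit false
set_option linter.unusedSectionVars false

namespace Cfsg.Agent.Forms.Max.SL4.Lines

open Matrix Cfsg.Agent.Forms.Max Cfsg.Agent.Forms.Max.LinearMono

variable {F : Type*} [Field F] [Fintype F] {M : Subgroup (GL (Fin 4) F)} {a μ : F}
  (S : Std M a μ) (hμ : μ = -1) (h2 : (2 : F) ≠ 0) (hq : 7 ≤ Fintype.card F)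

include S hμ h2

/-- monomial reflections on two coordinates -/
theorem hy_half {p q : Fin 4} (hpq : p ≠ q) {ρ : F} (hρ : ρ ≠ 0) :
    Hy M a μ (ρ • E F p + E F q) ((2 * ρ)⁻¹ • E F p + (2 : F)⁻¹ • E F q) := by
  obtain ⟨k, l, hd⟩ := others_two hpq
  obtain ⟨d1, d2, d3, d4, d5, d6⟩ := id hd
  have ha := S.a0
  set s : Fin 4 → Fˣ := fun j => if j = q then Units.mk0 (-(a * ρ)) (neg_ne_zero.2 (mul_ne_zero ha hρ))
    else if j = p then Units.mk0 (-(a / ρ)) (neg_ne_zero.2 (div_ne_zero ha hρ)) else Units.mk0 a ha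
  refine ⟨?_, mon (Equiv.swap p q) s, mon_mem S.above ?_, fun x => funext fun j => ?_⟩
  · simp [add_dotProduct, smul_dotProduct, single_dotProduct, hpq, hpq.symm]
    field_simp
    norm_num
  · rw [Equiv.Perm.sign_swap hpq, prod_four hd]
    simp [s, d1, d1.symm, d2.symm, d3.symm, d4.symm, d5.symm]
    have := S.pow
    rw [hμ] at this
    field_simp
    linear_combination this
  · obtain ⟨y, rfl⟩ := (Equiv.swap p q).surjective j
    rw [mon_mulVec, Pi.smul_apply, Pi.add_apply, Pi.smul_apply, hμ]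
    simp only [add_dotProduct, smul_dotProduct, single_dotProduct, one_mul, smul_eq_mul]
    by_cases hy : y = p
    · subst hy; simp [s, hpq, hpq.symm, Equiv.swap_apply_left]; field_simp; ring
    by_cases hy' : y = q
    · subst hy'; simp [s, hpq, hpq.symm, Equiv.swap_apply_right]; field_simp; ring
    rw [Equiv.swap_apply_of_ne_of_ne hy hy']
    simp [s, hy, hy']

/-- the reflection moved by a pseudo-homology -/
theorem cross {u φ : Fin 4 → F} (h : Hy M a μ u φ) {p q : Fin 4} (hpq : p ≠ q) {ρ : F} (hρ : ρ ≠ 0) :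
    ∃ u' φ', Hy M a μ u' φ' ∧
      u' p = ρ - 2 * (ρ * φ p + φ q) * u p ∧ u' q = 1 - 2 * (ρ * φ p + φ q) * u q ∧
      (∀ x, x ≠ p → x ≠ q → u' x = -2 * (ρ * φ p + φ q) * u x) ∧
      φ' p = (2 * ρ)⁻¹ - (u p / ρ + u q) * φ p ∧
      ∀ x, x ≠ p → x ≠ q → φ' x = -(u p / ρ + u q) * φ x := by
  have h' := hy_hy S (hy_half S hμ h2 hpq hρ) h
  refine ⟨_, _, h', ?_, ?_, fun x hxp hxq => ?_, ?_, fun x hxp hxq => ?_⟩ <;>
    simp only [Pi.add_apply, Pi.smul_apply, add_dotProduct, dotProduct_add, smul_dotProduct, dotProduct_smul,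
      single_dotProduct, dotProduct_single, one_mul, mul_one, smul_eq_mul, hμ]
  · simp [hpq]; ring
  · simp [hpq.symm]; ring
  · simp [hxp, hxq]; ring
  · simp [hpq]; field_simp; ring
  · simp [hxp, hxq]; field_simp; ring_nf; simp

theorem pair_eq {u φ : Fin 4 → F} (h : Hy M a μ u φ) {p q l : Fin 4} (hpq : p ≠ q) (hlp : l ≠ p) (hlq : l ≠ q)
    (hp : u p ≠ 0) (hq' : u q ≠ 0) (hl : u l ≠ 0) : u p * φ p = u q * φ q := by
  have hφp : φ p ≠ 0 := fun e => hp ((bal S h p).2 e)
  have hφq : φ q ≠ 0 := fun e => hq' ((bal S h q).2 e)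
  have hρ : -(φ q / φ p) ≠ 0 := neg_ne_zero.2 (div_ne_zero hφq hφp)
  obtain ⟨u', φ', h', -, -, hu, -, hφ⟩ := cross S hμ h2 h hpq hρ
  have h1 := (bal S h' l).1 (by
    rw [hu l hlp hlq, show -(φ q / φ p) * φ p + φ q = 0 by field_simp; ring, mul_zero, zero_mul])
  rw [hφ l hlp hlq] at h1
  have h3 := (mul_eq_zero.1 h1).resolve_right fun e => hl ((bal S h l).2 e)
  field_simp at h3
  linear_combination h3

include hq

theorem no_three' {u φ : Fin 4 → F} (h : Hy M a μ u φ) {p q l : Fin 4} (hpq : p ≠ q) (hpl : p ≠ l) (hql : q ≠ l)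
    (hp : u p ≠ 0) (hq' : u q ≠ 0) (hl : u l ≠ 0) : False := by
  classical
  obtain ⟨k, hd⟩ := others_three hpq hpl hql
  obtain ⟨d1, d2, d3, d4, d5, d6⟩ := id hd
  have e1 := pair_eq S hμ h2 h hpq hpl.symm hql.symm hp hq' hl
  have e2 := pair_eq S hμ h2 h hql hpq hpl hq' hl hp
  have h1 := sum_one h hd
  have hφp : φ p ≠ 0 := fun e => hp ((bal S h p).2 e)
  by_cases hk : u k = 0
  · rw [hk, zero_mul, add_zero, ← e2, ← e1] at h1
    have hρ : 2 * u p / u q ≠ 0 := div_ne_zero (mul_ne_zero h2 hp) hq'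
    obtain ⟨u', φ', h', hu, -, -, hφ, -⟩ := cross S hμ h2 h hpq hρ
    have hz := (bal S h' p).1 (by
      rw [hu]; field_simp
      linear_combination (-(u p)) * h1 * 2 + (2 * u p) * e1)
    rw [hφ] at hz
    field_simp at hz
    have h3 : u p * φ p * 6 = 1 := by
      have hz' : 1 - 2 * u p * (1 + 2) * φ p = 0 := mul_left_cancel₀ hq' (by linear_combination hz)
      linear_combination -hz'
    exact one_ne_zero (show (1 : F) = 0 by linear_combination h3 - 2 * h1)
  · have e3 := pair_eq S hμ h2 h (p := l) (q := k) d6 hpl d3 hl hk hp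
    rw [← e3, ← e2, ← e1] at h1
    have h4 : (4 : F) ≠ 0 := by rw [show (4 : F) = 2 * 2 by norm_num]; exact mul_ne_zero h2 h2
    obtain ⟨r, hr⟩ : ∃ r : F, r ∉ ((Polynomial.X ^ 4 - Polynomial.C (1 : F)).roots.toFinset ∪ {0}) := by
      by_contra hc
      push Not at hc
      have k1 := Finset.card_le_card (show (Finset.univ : Finset F) ⊆
        (Polynomial.X ^ 4 - Polynomial.C (1 : F)).roots.toFinset ∪ {0} from fun x _ => hc x)
      have k2 := Finset.card_union_le (Polynomial.X ^ 4 - Polynomial.C (1 : F)).roots.toFinset {0}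
      have k3 := (Multiset.toFinset_card_le (Polynomial.X ^ 4 - Polynomial.C (1 : F)).roots).trans
        ((Polynomial.card_roots' _).trans (by rw [Polynomial.natDegree_X_pow_sub_C]))
      rw [Finset.card_univ] at k1
      rw [Finset.card_singleton] at k2
      omega
    simp only [Finset.mem_union, Multiset.mem_toFinset, Finset.mem_singleton, not_or,
      Polynomial.mem_roots (Polynomial.X_pow_sub_C_ne_zero (by norm_num : 0 < 4) (1 : F)), Polynomial.IsRoot.def,
      Polynomial.eval_sub, Polynomial.eval_pow, Polynomial.eval_X, Polynomial.eval_C, sub_eq_zero] at hr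
    obtain ⟨hr4, hr0⟩ := hr
    have hρ : r * u p / u q ≠ 0 := div_ne_zero (mul_ne_zero hr0 hp) hq'
    obtain ⟨u', φ', h', hup, huq, hux, hφp', hφx⟩ := cross S hμ h2 h hpq hρ
    have hrm : r - 1 ≠ 0 := sub_ne_zero.2 fun e => hr4 (by rw [e]; ring)
    have hrp : r + 1 ≠ 0 := fun e => hr4 (by rw [eq_neg_of_add_eq_zero_left e]; ring)
    set c := r * u p / u q * φ p + φ q
    have hc : c * u q = (r + 1) * (u p * φ p) := by
      simp only [c]; field_simp; linear_combination -e1
    have hc' : u' p * u q * 2 = u p * (r - 1) := by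
      rw [hup]
      have : r * u p / u q * u q = r * u p := div_mul_cancel₀ _ hq'
      linear_combination 2 * this - 4 * u p * hc - (r + 1) * u p * h1
    have hcq : u' q * 2 = 1 - r := by
      rw [huq]; linear_combination -4 * hc - (r + 1) * h1
    have hcl : u' l * u q * 2 = -(u l * (r + 1)) := by
      rw [hux l hpl.symm hql.symm]; linear_combination -4 * u l * hc - (r + 1) * u l * h1
    have np : u' p ≠ 0 := fun e => by rw [e, zero_mul, zero_mul] at hc'; exact mul_ne_zero hp hrm hc'.symm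
    have nq : u' q ≠ 0 := fun e => by rw [e, zero_mul] at hcq; exact hrm (by linear_combination hcq)
    have nl : u' l ≠ 0 := fun e => by
      rw [e, zero_mul, zero_mul] at hcl; exact mul_ne_zero hl hrp (by linear_combination hcl)
    have e := pair_eq S hμ h2 h' (p := p) (q := l) hpl hpq.symm hql np nl nq
    rw [hφp', hφx l hpl.symm hql.symm] at e
    have e' : u' p * u q * 2 * ((2 * (r * u p / u q))⁻¹ - (u p / (r * u p / u q) + u q) * φ p) =
        u' l * u q * 2 * (-(u p / (r * u p / u q) + u q) * φ l) := by linear_combination (u q * 2) * e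
    rw [hc', hcl] at e'
    field_simp at e'
    have h5 : (r * r + 1) * 2 = 0 := by
      have hl' : u l * φ l = u p * φ p := by rw [← e2, ← e1]
      linear_combination (-2) * e' - (2 * r ^ 2 + 2 * r) * h1 - 4 * (1 + r) ^ 2 * hl'
    exact hr4 (by linear_combination (r * r - 1) * (mul_eq_zero.1 h5).resolve_right h2)

/-- a support with two points has both weights one half -/
theorem supp_half {u φ : Fin 4 → F} (h : Hy M a μ u φ) {i j : Fin 4} (hij : i ≠ j) (hi : u i ≠ 0) (hj : u j ≠ 0) :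
    (∀ x, x ≠ i → x ≠ j → u x = 0) ∧ 2 * (u i * φ i) = 1 ∧ 2 * (u j * φ j) = 1 := by
  have hz : ∀ x, x ≠ i → x ≠ j → u x = 0 := fun x hxi hxj => by
    by_contra hx
    exact no_three' S hμ h2 hq h hij hxi.symm hxj.symm hi hj hx
  obtain ⟨k, l, hd⟩ := others_two hij
  obtain ⟨d1, d2, d3, d4, d5, d6⟩ := id hd
  have hk := hz k d2.symm d4.symm
  have hl := hz l d3.symm d5.symm
  have h1 := sum_one h hd
  rw [hk, hl, zero_mul, zero_mul, add_zero, add_zero] at h1
  refine ⟨hz, ?_⟩
  by_cases hv : 2 * (u i * φ i) = 1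
  · exact ⟨hv, by linear_combination 2 * h1 - hv⟩
  exfalso
  have hn : ∀ {v : F}, 2 * v ≠ 1 → 1 + (μ - 1) * v ≠ 0 := fun {v} hv e => hv (by rw [hμ] at e; linear_combination -e)
  have e1 := two_key S h hd hi hj hk hl (hn hv)
  have e2 := two_key S h (i := j) (j := i) ⟨d1.symm, d4, d5, d2, d3, d6⟩ hj hi hk hl
    (hn fun e => hv (by linear_combination 2 * h1 - e))
  rw [hμ] at e1 e2
  exact h2 (by linear_combination e1 + e2 - 4 * h1)

end Cfsg.Agent.Forms.Max.SL4.Lines
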