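import Mathlib

/-!
# Four non-zero elements with sum zero and prescribed product modulo fourth powers
-/

set_option autoImplicit false

namespace Cfsg.Agent.Forms.Max.SL4.Lines

open Polynomial

variable {F : Type*} [Field F] [Fintype F]

/-- for one class modulo four the two classes of non-squares both occur -/
theorem exists_nonsq_class {k : ℕ} (hk : 2 ≤ k) (hF : Fintype.card F = 4 * k + 1) (h2 : (2 : F) ≠ 0) (e : F) :
    ∃ r : F, r ≠ 0 ∧ ¬ IsSquare r ∧ (4 * r * (1 + r) ^ 2) ^ k ≠ e := by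
  classical
  by_contra hc
  push Not at hc
  have hr2 : ringChar F ≠ 2 := fun h => h2 (by
    have := ringChar.Nat.cast_ringChar (R := F); rw [h] at this; exact_mod_cast this)
  have hhalf : Fintype.card F / 2 = 2 * k := by omega
  have h4 : (4 : F) ^ k ≠ 0 := pow_ne_zero _ (by rw [show (4 : F) = 2 * 2 by norm_num]; exact mul_ne_zero h2 h2)
  set Q : F[X] := (1 + X) ^ (2 * k) - X ^ (2 * k) - 1 + C (e * ((4 : F) ^ k)⁻¹) * X ^ k with hQ
  have hdeg : Q.natDegree ≤ 2 * k - 1 := by
    rw [natDegree_le_iff_coeff_eq_zero]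
    intro N hN
    rw [hQ, coeff_add, coeff_sub, coeff_sub, coeff_one_add_X_pow, coeff_X_pow, coeff_one, coeff_C_mul_X_pow,
      if_neg (show N ≠ 0 by omega), if_neg (show N ≠ k by omega)]
    rcases Nat.eq_or_lt_of_le (show 2 * k ≤ N by omega) with rfl | hlt
    · simp
    · rw [Nat.choose_eq_zero_of_lt hlt, if_neg (by omega)]; simp
  set S : Finset F := Finset.univ.filter fun r => r ≠ 0 ∧ ¬ IsSquare r
  have hev : ∀ r ∈ S, Q.eval r = 0 := by
    intro r hr
    obtain ⟨hr0, hrs⟩ := (Finset.mem_filter.1 hr).2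
    have hpow : r ^ (2 * k) = -1 := by
      rcases FiniteField.pow_dichotomy hr2 hr0 with h | h
      · exact absurd ((FiniteField.isSquare_iff hr2 hr0).2 h) hrs
      · rw [← hhalf]; exact h
    have h := hc r hr0 hrs
    rw [mul_pow, mul_pow, ← pow_mul] at h
    rw [pow_mul', sq] at hpow
    simp only [hQ, eval_add, eval_sub, eval_pow, eval_one, eval_X, eval_mul, eval_C]
    rw [show r ^ (2 * k) = -1 by rw [pow_mul', sq]; exact hpow, ← h]
    field_simp
    linear_combination ((1 + r) ^ (2 * k)) * hpow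
  have hS : 2 * k ≤ S.card := by
    set T : Finset F := Finset.univ.filter fun r => r ≠ 0 ∧ IsSquare r
    have hT : T ⊆ ((X ^ (2 * k) - C 1 : F[X]).roots).toFinset := fun r hr => by
      obtain ⟨hr0, hrs⟩ := (Finset.mem_filter.1 hr).2
      rw [Multiset.mem_toFinset, mem_roots (X_pow_sub_C_ne_zero (by omega) _)]
      simp [← hhalf, (FiniteField.isSquare_iff hr2 hr0).1 hrs]
    have hTc : T.card ≤ 2 * k := (Finset.card_le_card hT).trans ((Multiset.toFinset_card_le _).trans
      ((card_roots' _).trans (by rw [natDegree_X_pow_sub_C])))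
    have hsub : (Finset.univ : Finset F).erase 0 ⊆ S ∪ T := fun r hr => by
      have := Finset.ne_of_mem_erase hr
      by_cases hs : IsSquare r <;> simp [S, T, this, hs]
    have := (Finset.card_le_card hsub).trans (Finset.card_union_le _ _)
    rw [Finset.card_erase_of_mem (Finset.mem_univ _), Finset.card_univ] at this
    omega
  have hQ0 : Q = 0 := eq_zero_of_natDegree_lt_card_of_eval_eq_zero' Q S hev (by omega)
  have h1 := congrArg (fun P : F[X] => P.coeff 1) hQ0
  simp only [hQ, coeff_add, coeff_sub, coeff_one_add_X_pow, coeff_X_pow, coeff_one, coeff_C_mul_X_pow, coeff_zero] at h1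
  rw [if_neg (show 1 ≠ 2 * k by omega), if_neg one_ne_zero, if_neg (show 1 ≠ k by omega), Nat.choose_one_right] at h1
  have hcard : ((4 * k + 1 : ℕ) : F) = 0 := by rw [← hF]; exact Nat.cast_card_eq_zero F
  push_cast at h1 hcard
  exact one_ne_zero (show (1 : F) = 0 by linear_combination hcard - 2 * h1)

/-- four non-zero elements with sum zero in every class -/
theorem exists_null (hq : 7 ≤ Fintype.card F) {P : F} (hP : P ≠ 0) :
    ∃ x y z w d : F, x ≠ 0 ∧ y ≠ 0 ∧ z ≠ 0 ∧ w ≠ 0 ∧ d ≠ 0 ∧ x + y + z + w = 0 ∧ x * y * z * w = P * d ^ 4 := by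
  classical
  rcases eq_or_ne (2 : F) 0 with h2 | h2
  · have hc : ringChar F = 2 := by
      have hd : ringChar F ∣ 2 := (ringChar.spec F 2).1 (by exact_mod_cast h2)
      rcases (Nat.dvd_prime Nat.prime_two).1 hd with e | e
      · exact absurd e CharP.ringChar_ne_one
      · exact e
    obtain ⟨u, hu⟩ := FiniteField.isSquare_of_char_two hc P⁻¹
    obtain ⟨d, rfl⟩ := FiniteField.isSquare_of_char_two hc u
    have hd : d ≠ 0 := by rintro rfl; simp at hu; exact hP hu
    exact ⟨1, 1, 1, 1, d, one_ne_zero, one_ne_zero, one_ne_zero, one_ne_zero, hd, by linear_combination 2 * h2, by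
      rw [show d ^ 4 = d * d * (d * d) by ring, ← hu, mul_inv_cancel₀ hP]; ring⟩
  by_cases hsq : IsSquare P
  · obtain ⟨y, rfl⟩ := hsq
    have hy : y ≠ 0 := left_ne_zero_of_mul hP
    exact ⟨1, -1, y, -y, 1, one_ne_zero, neg_ne_zero.2 one_ne_zero, hy, neg_ne_zero.2 hy, one_ne_zero, by ring, by ring⟩
  have hr2 : ringChar F ≠ 2 := fun h => h2 (by
    have := ringChar.Nat.cast_ringChar (R := F); rw [h] at this; exact_mod_cast this)
  have h4 : (4 : F) ≠ 0 := by rw [show (4 : F) = 2 * 2 by norm_num]; exact mul_ne_zero h2 h2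
  have hodd : Fintype.card F % 2 = 1 := FiniteField.odd_card_of_char_ne_two hr2
  have hone : ∀ {r : F}, r ≠ 0 → ¬ IsSquare r → (r = -1 → False) → ∀ d : F, 4 * r * (1 + r) ^ 2 = P * d ^ 4 →
      ∃ x y z w d : F, x ≠ 0 ∧ y ≠ 0 ∧ z ≠ 0 ∧ w ≠ 0 ∧ d ≠ 0 ∧ x + y + z + w = 0 ∧ x * y * z * w = P * d ^ 4 := by
    intro r hr0 hrs hr1 d hd
    have h1 : 1 + r ≠ 0 := fun e => hr1 (by linear_combination e)
    refine ⟨2, 2 * r, -(1 + r), -(1 + r), d, h2, mul_ne_zero h2 hr0, neg_ne_zero.2 h1, neg_ne_zero.2 h1, ?_, by ring,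
      by linear_combination hd⟩
    rintro rfl
    rw [zero_pow (by norm_num), mul_zero] at hd
    exact mul_ne_zero (mul_ne_zero h4 hr0) (pow_ne_zero 2 h1) hd
  -- the product over the class is a square
  have hratio : ∀ {r : F}, r ≠ 0 → ¬ IsSquare r → ∃ w : F, w ^ 2 = 4 * r * (1 + r) ^ 2 / P := by
    intro r hr0 hrs
    have h := (FiniteField.isSquare_iff hr2 (div_ne_zero hr0 hP)).2 (by
      rcases FiniteField.pow_dichotomy hr2 hr0 with h | h
      · exact absurd ((FiniteField.isSquare_iff hr2 hr0).2 h) hrs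
      rcases FiniteField.pow_dichotomy hr2 hP with h' | h'
      · exact absurd ((FiniteField.isSquare_iff hr2 hP).2 h') hsq
      rw [div_pow, h, h', div_self (neg_ne_zero.2 one_ne_zero)])
    obtain ⟨t, ht⟩ := h
    exact ⟨2 * (1 + r) * t, by rw [mul_pow, sq t, ← ht]; ring⟩
  rcases em (Fintype.card F % 4 = 3) with h3 | h3
  · have hm : ¬ IsSquare (-1 : F) := fun h => FiniteField.isSquare_neg_one_iff.1 h h3
    obtain ⟨s, hs⟩ : (((Finset.univ.erase (0 : F)).erase 1).erase (-1)).Nonempty := by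
      rw [← Finset.card_pos]
      have e1 := Finset.pred_card_le_card_erase (s := (Finset.univ.erase (0 : F)).erase 1) (a := (-1 : F))
      have e2 := Finset.pred_card_le_card_erase (s := Finset.univ.erase (0 : F)) (a := (1 : F))
      have e3 := Finset.pred_card_le_card_erase (s := (Finset.univ : Finset F)) (a := (0 : F))
      rw [Finset.card_univ] at e3
      omega
    simp only [Finset.mem_erase, Finset.mem_univ, and_true] at hs
    have hrs : ¬ IsSquare (-(s * s)) := fun ⟨t, ht⟩ => hm ⟨t / s, by have := hs.2.2; field_simp; linear_combination ht⟩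
    have hr0 : -(s * s) ≠ 0 := neg_ne_zero.2 (mul_ne_zero hs.2.2 hs.2.2)
    obtain ⟨w, hw⟩ := hratio hr0 hrs
    have hr1 : -(s * s) = -1 → False := fun e => by
      rcases mul_eq_zero.1 (show (s - 1) * (s + 1) = 0 by linear_combination -e) with h | h
      · exact hs.2.1 (sub_eq_zero.1 h)
      · exact hs.1 (eq_neg_of_add_eq_zero_left h)
    obtain ⟨d, hd⟩ : ∃ d : F, d ^ 4 = w ^ 2 := by
      by_cases hws : IsSquare w
      · obtain ⟨d, rfl⟩ := hws; exact ⟨d, by ring⟩
      have hw0 : w ≠ 0 := by rintro rfl; exact hws ⟨0, by simp⟩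
      obtain ⟨d, hd⟩ := (FiniteField.isSquare_iff hr2 (neg_ne_zero.2 hw0)).2 (by
        have hm' := (FiniteField.pow_dichotomy hr2 (neg_ne_zero.2 (one_ne_zero (α := F)))).resolve_left
          (fun h => hm ((FiniteField.isSquare_iff hr2 (neg_ne_zero.2 one_ne_zero)).2 h))
        have hw' := (FiniteField.pow_dichotomy hr2 hw0).resolve_left
          (fun h => hws ((FiniteField.isSquare_iff hr2 hw0).2 h))
        rw [neg_eq_neg_one_mul, mul_pow, hm', hw']; ring)
      exact ⟨d, by rw [show d ^ 4 = (d * d) ^ 2 by ring, ← hd]; ring⟩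
    refine hone hr0 hrs hr1 d ?_
    rw [hd, hw]; field_simp
  have hm1 : IsSquare (-1 : F) := FiniteField.isSquare_neg_one_iff.2 h3
  obtain ⟨k, hk⟩ : ∃ k, Fintype.card F = 4 * k + 1 := ⟨Fintype.card F / 4, by omega⟩
  obtain ⟨r, hr0, hrs, hne⟩ := exists_nonsq_class (by omega) hk h2 (-(P ^ k))
  obtain ⟨w, hw⟩ := hratio hr0 hrs
  have hr1 : r = -1 → False := fun e => hrs (e ▸ hm1)
  have hw0 : w ≠ 0 := fun e => by
    rw [e] at hw
    have := hw.symm
    simp [hP, h4, hr0] at this
    exact hr1 (by linear_combination this)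
  obtain ⟨d, hd⟩ : IsSquare w := by
    by_contra hws
    refine hne ?_
    have hw' := (FiniteField.pow_dichotomy hr2 hw0).resolve_left fun h => hws ((FiniteField.isSquare_iff hr2 hw0).2 h)
    rw [show Fintype.card F / 2 = 2 * k by omega, pow_mul] at hw'
    rw [show 4 * r * (1 + r) ^ 2 = w ^ 2 * P by rw [hw]; field_simp, mul_pow, hw']
    ring
  refine hone hr0 hrs hr1 d ?_
  rw [show d ^ 4 = (d * d) ^ 2 by ring, ← hd, hw]; field_simp

end Cfsg.Agent.Forms.Max.SL4.Lines
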