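import Mathlib
import Cfsg.Agent.Lib.Forms.Max.SL4.Lines.Moves
import Cfsg.Agent.Lib.Forms.Max.SL4.Lines.Field

/-!
# Supports of pseudo-homologies when the factor is not minus one
-/

set_option autoImplicit false
set_option linter.unusedSectionVars false

namespace Cfsg.Agent.Forms.Max.SL4.Lines

open Matrix Cfsg.Agent.Forms.Max Cfsg.Agent.Forms.Max.LinearMono

variable {F : Type*} [Field F] [Fintype F] {M : Subgroup (GL (Fin 4) F)} {a μ : F}
  (S : Std M a μ) (hμ : μ ≠ -1) (hμ2 : μ ^ 2 ≠ -1) (hq : 7 ≤ Fintype.card F)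

include S hμ

/-- no weight is critical -/
theorem nc {u φ : Fin 4 → F} (h : Hy M a μ u φ) (i : Fin 4) : 1 + (μ - 1) * (u i * φ i) ≠ 0 := by
  intro he
  have h2 := hy_hy S (hy_axis S i) h
  rw [dotProduct_single, mul_one, single_dotProduct, one_mul] at h2
  have h3 := (bal S h2 i).1 (by
    rw [Pi.add_apply, Pi.smul_apply, smul_eq_mul, E_self, ← he]; ring)
  rw [Pi.add_apply, Pi.smul_apply, smul_eq_mul, E_self] at h3
  have := S.μ0
  field_simp at h3
  have h5 : (μ - 1) * (μ + 1) * (u i * φ i) = 0 := by linear_combination μ * he - h3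
  rcases mul_eq_zero.1 h5 with h6 | h6
  · rcases mul_eq_zero.1 h6 with h7 | h7
    · exact S.m0 h7
    · exact hμ (eq_neg_of_add_eq_zero_left h7)
  · rw [h6, mul_zero, add_zero] at he; exact one_ne_zero he

include hμ2

theorem no_two {u φ : Fin 4 → F} (h : Hy M a μ u φ) {i j k l : Fin 4} (hd : Dist i j k l) (hi : u i ≠ 0)
    (hj : u j ≠ 0) (hk : u k = 0) (hl : u l = 0) : False := by
  obtain ⟨d1, d2, d3, d4, d5, d6⟩ := hd
  have h1 := sum_one h (⟨d1, d2, d3, d4, d5, d6⟩ : Dist i j k l)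
  rw [hk, hl, zero_mul, zero_mul, add_zero, add_zero] at h1
  have e1 := two_key S h ⟨d1, d2, d3, d4, d5, d6⟩ hi hj hk hl (nc S hμ h i)
  have e2 := two_key S h (i := j) (j := i) ⟨d1.symm, d4, d5, d2, d3, d6⟩ hj hi hk hl (nc S hμ h j)
  exact hμ2 (by linear_combination e1 + e2 - (μ - 1) ^ 2 * h1)

include hq

theorem no_three {u φ : Fin 4 → F} (h : Hy M a μ u φ) {i j k l : Fin 4} (hd : Dist i j k l) (hi : u i ≠ 0)
    (hj : u j ≠ 0) (hk : u k ≠ 0) (hl : u l = 0) : False := by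
  classical
  have hv : ∀ {x}, u x ≠ 0 → u x * φ x ≠ 0 := fun {x} hx => mul_ne_zero hx fun e => hx ((bal S h x).2 e)
  have h1 := sum_one h hd
  rw [hl, zero_mul, add_zero] at h1
  set Cc := -(1 + (μ - 1) * (u i * φ i)) / (μ - 1) with hC
  set Cd := -(1 + (μ⁻¹ - 1) * (u i * φ i)) / (μ⁻¹ - 1) with hCd
  have hC0 : Cc ≠ 0 := div_ne_zero (neg_ne_zero.2 (nc S hμ h i)) S.m0
  set p := u j * φ j
  set q := u k * φ k
  have hp : p ≠ 0 := hv hj
  have hq0 : q ≠ 0 := hv hk
  set Q : Polynomial F := Polynomial.C (Cd * p) * Polynomial.X ^ 2 +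
    Polynomial.C (q ^ 2 - p ^ 2 - Cd * Cc) * Polynomial.X + Polynomial.C (p * Cc) with hQ
  have hQ0 : Q ≠ 0 := fun e => mul_ne_zero hp hC0 (by
    have := congrArg (fun P : Polynomial F => P.coeff 0) e
    simpa [hQ] using this)
  have hQd : Q.natDegree ≤ 2 := by rw [hQ]; compute_degree
  obtain ⟨R, hR⟩ : ∃ R, R ∉ (Q.roots.toFinset ∪ {0, Cc / p}) := by
    by_contra hc
    push Not at hc
    have h4 := Finset.card_le_card (show (Finset.univ : Finset F) ⊆ Q.roots.toFinset ∪ {0, Cc / p} from fun x _ => hc x)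
    have h5 := Finset.card_union_le Q.roots.toFinset {0, Cc / p}
    have h6 := (Multiset.toFinset_card_le Q.roots).trans ((Polynomial.card_roots' Q).trans hQd)
    have h7 : ({0, Cc / p} : Finset F).card ≤ 2 := Finset.card_le_two
    rw [Finset.card_univ] at h4
    omega
  simp only [Finset.mem_union, Multiset.mem_toFinset, Finset.mem_insert, Finset.mem_singleton, not_or,
    Polynomial.mem_roots hQ0, Polynomial.IsRoot.def] at hR
  obtain ⟨hRQ, hR0, hRp⟩ := hR
  set B := (Cc - p * R) / q with hBdef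
  have hn : Cc - p * R ≠ 0 := fun e => hRp (by field_simp; linear_combination -e)
  have hB : B ≠ 0 := div_ne_zero hn hq0
  have hm := S.m0
  have hm' := S.m0'
  have hCe : (μ - 1) * Cc = -(1 + (μ - 1) * (u i * φ i)) := mul_div_cancel₀ _ hm
  have hCde : (μ⁻¹ - 1) * Cd = -(1 + (μ⁻¹ - 1) * (u i * φ i)) := mul_div_cancel₀ _ hm'
  have hBe : q * B = Cc - p * R := mul_div_cancel₀ _ hq0
  clear_value Cc Cd B
  obtain ⟨h2, -⟩ := move S h hd hi hR0 hB (inv_ne_zero (mul_ne_zero hR0 hB)) (t := 1)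
    (by rw [mul_inv_cancel₀ (mul_ne_zero hR0 hB)]; ring) (by
      rw [hl, zero_mul, zero_mul, add_zero]
      change (μ - 1) * (_ + p * R + q * B) = -1
      linear_combination hCe + (μ - 1) * hBe)
  rw [hl, zero_mul, zero_div, add_zero] at h2
  change (μ⁻¹ - 1) * (_ + p / R + q / B) = -1 at h2
  apply hRQ
  have h3 : p / R + q / B = Cd := mul_left_cancel₀ hm' (by linear_combination h2 - hCde)
  field_simp at h3
  simp only [hQ, Polynomial.eval_add, Polynomial.eval_mul, Polynomial.eval_C, Polynomial.eval_pow, Polynomial.eval_X]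
  linear_combination q * h3 + (Cd * R - p) * hBe

theorem not_three_or_two {u φ : Fin 4 → F} (h : Hy M a μ u φ) {i j k l : Fin 4} (hd : Dist i j k l)
    (hi : u i = 0) (hj : u j ≠ 0) (hk : u k ≠ 0) : False := by
  obtain ⟨d1, d2, d3, d4, d5, d6⟩ := hd
  by_cases hl : u l = 0
  · exact no_two S hμ hμ2 h (i := j) (j := k) (k := i) ⟨d4, d1.symm, d5, d2.symm, d6, d3⟩ hj hk hi hl
  · exact no_three S hμ hμ2 hq h (i := j) (j := k) (k := l) ⟨d4, d5, d1.symm, d6, d2.symm, d3.symm⟩ hj hk hl hi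

/-- full support yields another point of weight `-μ/(μ-1)^2` -/
theorem four_step {u φ : Fin 4 → F} (h : Hy M a μ u φ) (hall : ∀ x, u x ≠ 0) (i : Fin 4) :
    ∃ x, x ≠ i ∧ μ + (μ - 1) ^ 2 * (u x * φ x) = 0 := by
  obtain ⟨j, k, l, hd⟩ := others_one i
  obtain ⟨d1, d2, d3, d4, d5, d6⟩ := id hd
  have hv : ∀ x, u x * φ x ≠ 0 := fun x => mul_ne_zero (hall x) fun e => hall x ((bal S h x).2 e)
  have hm := S.m0
  set ai := u i * φ i + (μ - 1)⁻¹ with hai
  have hai0 : ai ≠ 0 := fun e => nc S hμ h i (by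
    have h5 : (μ - 1) * ai = 0 := by rw [e, mul_zero]
    rw [hai, mul_add, mul_inv_cancel₀ hm] at h5; linear_combination h5)
  obtain ⟨x, y, z, w, d, hx, hy, hz, hw, hd0, hsum, hprod⟩ :=
    exists_null hq (mul_ne_zero (mul_ne_zero (mul_ne_zero hai0 (hv j)) (hv k)) (hv l))
  set L := x / ai with hL
  have hL0 : L ≠ 0 := div_ne_zero hx hai0
  have hLe : L * ai = x := div_mul_cancel₀ _ hai0
  set A := y / (u j * φ j * L) with hAd
  set B := z / (u k * φ k * L) with hBd
  set D := w / (u l * φ l * L) with hDd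
  have hA : A ≠ 0 := div_ne_zero hy (mul_ne_zero (hv j) hL0)
  have hB : B ≠ 0 := div_ne_zero hz (mul_ne_zero (hv k) hL0)
  have hD : D ≠ 0 := div_ne_zero hw (mul_ne_zero (hv l) hL0)
  have hAe : u j * φ j * A * L = y := by
    have := div_mul_cancel₀ y (mul_ne_zero (hv j) hL0); linear_combination this
  have hBe : u k * φ k * B * L = z := by
    have := div_mul_cancel₀ z (mul_ne_zero (hv k) hL0); linear_combination this
  have hDe : u l * φ l * D * L = w := by
    have := div_mul_cancel₀ w (mul_ne_zero (hv l) hL0); linear_combination this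
  clear_value L A B D
  have hs : u j * φ j * A + u k * φ k * B + u l * φ l * D = -ai := by
    refine mul_right_cancel₀ hL0 ?_
    linear_combination hAe + hBe + hDe + hsum + hLe
  have he : (μ - 1) * (u i * φ i + u j * φ j * A + u k * φ k * B + u l * φ l * D) = -1 := by
    rw [show u i * φ i + u j * φ j * A + u k * φ k * B + u l * φ l * D = -(μ - 1)⁻¹ by
      linear_combination hs + hai, mul_neg, mul_inv_cancel₀ hm]
  have ht : (d / L) ^ 4 = A * B * D := by
    rw [div_pow, div_eq_iff (pow_ne_zero _ hL0)]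
    refine mul_left_cancel₀ (mul_ne_zero (mul_ne_zero (mul_ne_zero hai0 (hv j)) (hv k)) (hv l)) ?_
    rw [← hprod, ← hAe, ← hBe, ← hDe, ← hLe]; ring
  obtain ⟨he', u', φ', h', z0, zj, zk, zl⟩ := move S h hd (hall i) hA hB hD ht he
  have bad : ∀ {p : Fin 4} {R : F}, u' p = u p * (1 - R⁻¹) → R ≠ 1 → u' p ≠ 0 := fun {p R} e hR => by
    rw [e]; exact mul_ne_zero (hall p) (sub_ne_zero.2 fun e' => hR (inv_eq_one.1 e'.symm))
  by_cases hA1 : A = 1
  · by_cases hB1 : B = 1
    · refine ⟨l, d3.symm, one_key S h hd hD ?_ ?_⟩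
      · rw [hA1, hB1] at he; simpa using he
      · rw [hA1, hB1] at he'; simpa using he'
    by_cases hD1 : D = 1
    · refine ⟨k, d2.symm, one_key S h (i := i) (j := j) (k := l) (l := k) ⟨d1, d3, d2, d5, d4, d6.symm⟩ hB ?_ ?_⟩
      · rw [hA1, hD1] at he; linear_combination he
      · rw [hA1, hD1] at he'; linear_combination he'
    exact (not_three_or_two S hμ hμ2 hq h' (j := k) (k := l) (l := j) ⟨d2, d3, d1, d6, d4.symm, d5.symm⟩
      z0 (bad zk hB1) (bad zl hD1)).elim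
  by_cases hB1 : B = 1
  · by_cases hD1 : D = 1
    · refine ⟨j, d1.symm, one_key S h (i := i) (j := k) (k := l) (l := j) ⟨d2, d3, d1, d6, d4.symm, d5.symm⟩ hA ?_ ?_⟩
      · rw [hB1, hD1] at he; linear_combination he
      · rw [hB1, hD1] at he'; linear_combination he'
    exact (not_three_or_two S hμ hμ2 hq h' (j := j) (k := l) (l := k) ⟨d1, d3, d2, d5, d4, d6.symm⟩
      z0 (bad zj hA1) (bad zl hD1)).elim
  exact (not_three_or_two S hμ hμ2 hq h' hd z0 (bad zj hA1) (bad zk hB1)).elim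

/-- every support is a single coordinate -/
theorem supp_one {u φ : Fin 4 → F} (h : Hy M a μ u φ) {i j : Fin 4} (hij : i ≠ j) (hi : u i ≠ 0) (hj : u j ≠ 0) :
    False := by
  by_cases hall : ∀ x, u x ≠ 0
  swap
  · push Not at hall
    obtain ⟨z, hz⟩ := hall
    have hzi : z ≠ i := fun e => hi (e ▸ hz)
    have hzj : z ≠ j := fun e => hj (e ▸ hz)
    obtain ⟨l, hd⟩ := others_three hzi hzj hij
    exact not_three_or_two S hμ hμ2 hq h hd hz hi hj
  obtain ⟨p, -, hp⟩ := four_step S hμ hμ2 hq h hall i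
  obtain ⟨q, hqp, hq'⟩ := four_step S hμ hμ2 hq h hall p
  obtain ⟨k, l, hd⟩ := others_two hqp.symm
  obtain ⟨d1, d2, d3, d4, d5, d6⟩ := id hd
  have h1 := sum_one h hd
  have hμ0 := S.μ0
  have hn2 : μ ^ 2 ≠ 1 := fun e => by
    rcases mul_eq_zero.1 (show (μ - 1) * (μ + 1) = 0 by linear_combination e) with h | h
    · exact S.m0 h
    · exact hμ (eq_neg_of_add_eq_zero_left h)
  obtain ⟨-, u', φ', h', z0, -, zk, zl⟩ := move S h hd (hall p) (A := (μ ^ 3)⁻¹) (B := (μ ^ 2)⁻¹) (D := (μ ^ 2)⁻¹)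
    (inv_ne_zero (pow_ne_zero _ hμ0)) (inv_ne_zero (pow_ne_zero _ hμ0)) (inv_ne_zero (pow_ne_zero _ hμ0))
    (t := a ^ 7) (by
      rw [← mul_inv, ← mul_inv]
      exact eq_inv_of_mul_eq_one_left (by
        have e : (a ^ 4 * μ) ^ 7 = 1 := by rw [S.pow, one_pow]
        linear_combination e)) (by
      have hm := S.m0
      generalize u p * φ p = v at *
      generalize u q * φ q = w at *
      field_simp
      obtain rfl : v = w := mul_left_cancel₀ (pow_ne_zero 2 hm) (by linear_combination hp - hq')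
      have hrest : u k * φ k + u l * φ l = 1 - 2 * v := by linear_combination h1
      linear_combination (μ - 1) * μ * hrest + (μ - 1 + μ ^ 2) * hp)
  refine not_three_or_two S hμ hμ2 hq h' (j := k) (k := l) (l := q) ⟨d2, d3, d1, d6, d4.symm, d5.symm⟩ z0 ?_ ?_
  · rw [zk, inv_inv]; exact mul_ne_zero (hall k) (sub_ne_zero.2 hn2.symm)
  · rw [zl, inv_inv]; exact mul_ne_zero (hall l) (sub_ne_zero.2 hn2.symm)

end Cfsg.Agent.Forms.Max.SL4.Lines
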